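set_option autoImplicit false
namespace Cfsg.Agent.Lib.Helper6.TCD.J2C
noncomputable def NC (i : Nat) : Nat := Nat.land (Nat.shiftRight 0x40000100005920000e000000000f0000dc80003400038000240006d30000c0000f000060000d48000280003800138000b130000900004000100000ecc0001c0000c000400003b400006000000000800006c8000180002800138000b9300004000030000e0000ad00000c000200001800035200003000030000d0000ad000004000100003000027300001000000000200001c8000040000c0002800003400000000040000900004cc00000000080001800035200000000030000600003c000000000000000000000000000 (Nat.mul 86 (Nat.land i 511))) 77371252455336267181195263
end Cfsg.Agent.Lib.Helper6.TCD.J2C
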