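set_option autoImplicit false
namespace Cfsg.Agent.Lib.Helper6.TCD.J2C
noncomputable def NH (i : Nat) : Nat := Nat.land (Nat.shiftRight 0x1500004000028800050000560000e0000a00001a000170000280002c000050000570000900005a0000600017c000000002e8000200002c000060000b4000080001640000c0000880000000060000000000bc00000000040000040002d8000000006100000 (Nat.mul 43 (Nat.land i 1023))) 8796093022207
end Cfsg.Agent.Lib.Helper6.TCD.J2C
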