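set_option autoImplicit false
namespace Cfsg.Agent.Lib.Helper6.TCD.J2C
noncomputable def SC (i : Nat) : Nat := Nat.land (Nat.shiftRight 0x10000000000000000000000000000000000000400000040000700800060020000000400048030000f0080002402000000000000000000000040018002000000100006002000000040000000000000100000004000000100000001000000000003c02000090080000001000000000005402000110080002c020000000000000000000000400000040000700800000040000000400000000000001000000040000000400000000000001000000040000001000000000000000000000010006000800000040000000400000000001500800044020000b00800000000000000400000000000f0080002402000000000000000000000040000004000070080000001000000000000004000000100000004000000000000001000000000000004000000100000000000000000000001000600080000004000000000000000000000000018002000000040000000000000000000000000000100000000 (Nat.mul 30 (Nat.land i 1023))) 1073741823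
end Cfsg.Agent.Lib.Helper6.TCD.J2C
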