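set_option autoImplicit false
namespace Cfsg.Agent.Lib.Helper6.TCD.J2C
noncomputable def WI (i : Nat) : Nat := Nat.land (Nat.shiftRight 0x1110008c6442302117108b08454422821131089084444220210f1087084344218210b108508424421021071083084144208210310810840442002019100c0805c402c2015100a0804c4024201110080803c401c200d10060802c4014200910040801c400c200510020800c400420011000084203e0e1f060f8287c103e061f020f8087c003c101e070f03078143c081e030f01078043c001e010e000700434001a010c00060042c0016010a0005004240012010800040041c000e0106000300414000a000400018000800020000 (Nat.mul 17 (Nat.land i 255))) 131071
end Cfsg.Agent.Lib.Helper6.TCD.J2C
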