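import Cfsg.Agent.Lib.Helper6.TCD.J2C.SH
import Cfsg.Agent.Lib.Helper6.TCD.J2C.SC
import Cfsg.Agent.Lib.Helper6.TCD.J2C.NH
import Cfsg.Agent.Lib.Helper6.TCD.J2C.NC
import Cfsg.Agent.Lib.Helper6.TCD.J2C.WD
import Cfsg.Agent.Lib.Helper6.TCD.J2C.WI
set_option autoImplicit false
namespace Cfsg.Agent.Lib.Helper6.TCD.J2C
def n : Nat := 19
def ncol : Nat := 5
def nrw : Nat := 97
def nw : Nat := 97
def tmax : Nat := 97
def INV : Nat := 274960
def N : Nat := 1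
end Cfsg.Agent.Lib.Helper6.TCD.J2C
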