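set_option autoImplicit false
namespace Cfsg.Agent.Lib.Helper6.TCD.J2C
noncomputable def SH (i : Nat) : Nat := Nat.land (Nat.shiftRight 0x1840000000030800000000530000e0000c200000000184000000003080000000061000000000960001a00013c0003c00026000078000480000d000086000180001540003800023000070000440000e0000c20000000018400000000208000500004e0001100009a000220000f8000280001e800048000520001200008e0002000011400040000248000800003700007000094000220000e8000280001c0000500002f00006000084000200000d0000240001900004800030000090000c20000000018400000000138000300002b00008000050000100000fc0003800012800020000400000f0000760001a0000e400034000118000180003c0000e00006a000180000cc000300001880006000061000000000c2000000000840000c00015000058000290000b000032000020000d8000340000f0000200001c00004000034000080000b80003000009800008000260000b00002c000060000500000c0003080000000061000000000160000200003c000080000600001000009000000000480001400007c0001c0000e8000380001b000070000440001200001c0000000010000040000170000600002a0000c0001840000000030800000000050000000001c0000a000034000140000c00003800012000060000140000a0000080000000000800000000080000400000c0000600001000008000018000080000000001 (Nat.mul 43 (Nat.land i 1023))) 8796093022207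
end Cfsg.Agent.Lib.Helper6.TCD.J2C
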